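import Mathlib
import Groth.Prelude.Def_NonAbH2
import Groth.Prelude.Def_ChGrp
import Groth.Prelude.Def_DescFam
import Groth.Agent.Lib.Helper5.Misc.DescFam2

/-!
# Points of schemes over a base with charts in an fpqc covering family; torsor division (helper2)
-/

set_option autoImplicit false
set_option backward.isDefEq.respectTransparency.types false
set_option synthInstance.maxHeartbeats 400000
set_option maxHeartbeats 4000000
set_option linter.style.haveILetI false
set_option linter.unusedSectionVars false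
set_option linter.unusedVariables false
set_option linter.unusedSimpArgs false
set_option linter.unnecessarySimpa false

universe u
open CategoryTheory CategoryTheory.Limits AlgebraicGeometry
open MonoidalCategory CartesianMonoidalCategory MonObj GrpObj

namespace Groth.Agent.Helper2.PushTors

section Pts

variable {B : Scheme.{u}}

/-- restriction of a point along a morphism of test schemes -/
def rs {Y : Over B} {T T' : Scheme.{u}} (g : T' ⟶ T) {t : T ⟶ B} {t' : T' ⟶ B}
    (h : g ≫ t = t') (y : Over.mk t ⟶ Y) : Over.mk t' ⟶ Y :=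
  (Over.homMk g h : Over.mk t' ⟶ Over.mk t) ≫ y

@[simp] theorem rs_left {Y : Over B} {T T' : Scheme.{u}} (g : T' ⟶ T) {t : T ⟶ B} {t' : T' ⟶ B}
    (h : g ≫ t = t') (y : Over.mk t ⟶ Y) : (rs g h y).left = g ≫ y.left := rfl

theorem rs_comp {Y Z : Over B} {T T' : Scheme.{u}} (g : T' ⟶ T) {t : T ⟶ B} {t' : T' ⟶ B}
    (h : g ≫ t = t') (y : Over.mk t ⟶ Y) (m : Y ⟶ Z) : rs g h (y ≫ m) = rs g h y ≫ m :=
  (Category.assoc _ _ _).symm

theorem rs_mul {Y : Over B} [GrpObj Y] {T T' : Scheme.{u}} (g : T' ⟶ T) {t : T ⟶ B}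
    {t' : T' ⟶ B} (h : g ≫ t = t') (a b : Over.mk t ⟶ Y) :
    rs g h (a * b) = rs g h a * rs g h b := comp_mul _ _ _

theorem rs_one {Y : Over B} [GrpObj Y] {T T' : Scheme.{u}} (g : T' ⟶ T) {t : T ⟶ B}
    {t' : T' ⟶ B} (h : g ≫ t = t') : rs g h (1 : Over.mk t ⟶ Y) = 1 := comp_one _

theorem rs_inv {Y : Over B} [GrpObj Y] {T T' : Scheme.{u}} (g : T' ⟶ T) {t : T ⟶ B}
    {t' : T' ⟶ B} (h : g ≫ t = t') (a : Over.mk t ⟶ Y) :
    rs g h (a⁻¹) = (rs g h a)⁻¹ := comp_inv _ _

theorem rs_lift {Y Z : Over B} {T T' : Scheme.{u}} (g : T' ⟶ T) {t : T ⟶ B}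
    {t' : T' ⟶ B} (h : g ≫ t = t') (a : Over.mk t ⟶ Y) (b : Over.mk t ⟶ Z) :
    rs g h (lift a b) = lift (rs g h a) (rs g h b) := comp_lift _ _ _

theorem pt_ext {Y : Over B} {T : Scheme.{u}} {t : T ⟶ B} {a b : Over.mk t ⟶ Y}
    (h : a.left = b.left) : a = b := Over.OverMorphism.ext h

variable {κ : Type u} {X : κ → Scheme.{u}} (f : ∀ i, X i ⟶ B)
  (hf : Presieve.ofArrows X f ∈ Scheme.fpqcPrecoverage B)

include hf in
/-- morphisms over the base agreeing on all points that admit a chart are equal -/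
theorem hom_ext_pts {W Y : Over B} (M₁ M₂ : W ⟶ Y)
    (h : ∀ ⦃T : Scheme.{u}⦄ (t : T ⟶ B) (w : Over.mk t ⟶ W) (i : κ) (x₀ : T ⟶ X i),
      x₀ ≫ f i = t → w ≫ M₁ = w ≫ M₂) : M₁ = M₂ := by
  apply Over.OverMorphism.ext
  apply Groth.Agent.Lib.Helper5.DescFam.jointly_epi_of_fpqc _
    (Groth.Agent.Lib.Helper5.DescFam.cover_fst f hf W.hom)
  intro i
  have h1 := h (pullback.fst W.hom (f i) ≫ W.hom)
    (Over.homMk (pullback.fst W.hom (f i)) rfl) i (pullback.snd W.hom (f i))
    pullback.condition.symm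
  exact congrArg (fun z => z.left) h1

include hf in
/-- a rule on points with charts, natural and independent of the chart, is a morphism -/
theorem glue_pts {W Y : Over B}
    (m : ∀ ⦃T : Scheme.{u}⦄ (t : T ⟶ B) (w : Over.mk t ⟶ W) (i : κ) (x₀ : T ⟶ X i),
      x₀ ≫ f i = t → (Over.mk t ⟶ Y))
    (hnat : ∀ ⦃T T' : Scheme.{u}⦄ (g : T' ⟶ T) (t : T ⟶ B) (t' : T' ⟶ B) (hg : g ≫ t = t')
      (w : Over.mk t ⟶ W) (i : κ) (x₀ : T ⟶ X i) (hx : x₀ ≫ f i = t)
      (hx' : (g ≫ x₀) ≫ f i = t'),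
      m t' (rs g hg w) i (g ≫ x₀) hx' = rs g hg (m t w i x₀ hx))
    (hind : ∀ ⦃T : Scheme.{u}⦄ (t : T ⟶ B) (w : Over.mk t ⟶ W) (i j : κ) (x₀ : T ⟶ X i)
      (x₁ : T ⟶ X j) (hx₀ : x₀ ≫ f i = t) (hx₁ : x₁ ≫ f j = t),
      m t w i x₀ hx₀ = m t w j x₁ hx₁) :
    ∃ M : W ⟶ Y, ∀ ⦃T : Scheme.{u}⦄ (t : T ⟶ B) (w : Over.mk t ⟶ W) (i : κ) (x₀ : T ⟶ X i)
      (hx : x₀ ≫ f i = t), w ≫ M = m t w i x₀ hx := by
  have hcongr : ∀ ⦃T : Scheme.{u}⦄ (t : T ⟶ B) (w w' : Over.mk t ⟶ W) (i : κ)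
      (x₀ x₀' : T ⟶ X i) (hx : x₀ ≫ f i = t) (hx' : x₀' ≫ f i = t), w = w' → x₀ = x₀' →
      m t w i x₀ hx = m t w' i x₀' hx' := by
    intro T t w w' i x₀ x₀' hx hx' e1 e2
    subst e1 e2
    rfl
  have hcov := Groth.Agent.Lib.Helper5.DescFam.cover_fst f hf W.hom
  have hxi : ∀ i, pullback.snd W.hom (f i) ≫ f i = pullback.fst W.hom (f i) ≫ W.hom :=
    fun i => pullback.condition.symm
  obtain ⟨M₀, hM₀, -⟩ := Groth.Agent.Lib.Helper5.DescFam.glue_fpqc
    (fun i => pullback.fst W.hom (f i)) hcov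
    (fun i => (m (pullback.fst W.hom (f i) ≫ W.hom)
      (Over.homMk (pullback.fst W.hom (f i)) rfl) i (pullback.snd W.hom (f i)) (hxi i)).left)
    (by
      intro k l Z gk gl hgl
      have hgl' : gl ≫ pullback.fst W.hom (f l) ≫ W.hom =
          gk ≫ pullback.fst W.hom (f k) ≫ W.hom := by
        rw [← Category.assoc, ← hgl, Category.assoc]
      have h1 := hnat gk (pullback.fst W.hom (f k) ≫ W.hom)
        (gk ≫ pullback.fst W.hom (f k) ≫ W.hom) rfl
        (Over.homMk (pullback.fst W.hom (f k)) rfl) k (pullback.snd W.hom (f k)) (hxi k)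
        (by rw [Category.assoc, hxi k])
      have h2 := hnat gl (pullback.fst W.hom (f l) ≫ W.hom)
        (gk ≫ pullback.fst W.hom (f k) ≫ W.hom) hgl'
        (Over.homMk (pullback.fst W.hom (f l)) rfl) l (pullback.snd W.hom (f l)) (hxi l)
        (by rw [Category.assoc, hxi l, hgl'])
      have hw : rs gk rfl (Over.homMk (pullback.fst W.hom (f k)) rfl :
            Over.mk (pullback.fst W.hom (f k) ≫ W.hom) ⟶ W) =
          rs gl hgl' (Over.homMk (pullback.fst W.hom (f l)) rfl :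
            Over.mk (pullback.fst W.hom (f l) ≫ W.hom) ⟶ W) := pt_ext hgl
      have h3 := hind (gk ≫ pullback.fst W.hom (f k) ≫ W.hom)
        (rs gk rfl (Over.homMk (pullback.fst W.hom (f k)) rfl :
            Over.mk (pullback.fst W.hom (f k) ≫ W.hom) ⟶ W)) k l
        (gk ≫ pullback.snd W.hom (f k)) (gl ≫ pullback.snd W.hom (f l))
        (by rw [Category.assoc, hxi k]) (by rw [Category.assoc, hxi l, hgl'])
      have h4 := hcongr (gk ≫ pullback.fst W.hom (f k) ≫ W.hom) _ _ l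
        (gl ≫ pullback.snd W.hom (f l)) (gl ≫ pullback.snd W.hom (f l))
        (by rw [Category.assoc, hxi l, hgl']) (by rw [Category.assoc, hxi l, hgl']) hw rfl
      have h5 := (h1.symm.trans (h3.trans h4)).trans h2
      exact congrArg (fun z => z.left) h5)
  have hM₀' : ∀ i, pullback.fst W.hom (f i) ≫ M₀ = (m (pullback.fst W.hom (f i) ≫ W.hom)
      (Over.homMk (pullback.fst W.hom (f i)) rfl) i (pullback.snd W.hom (f i)) (hxi i)).left :=
    hM₀
  have hw : M₀ ≫ Y.hom = W.hom := by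
    apply Groth.Agent.Lib.Helper5.DescFam.jointly_epi_of_fpqc _ hcov
    intro i
    rw [← Category.assoc, hM₀' i]
    exact Over.w (m (pullback.fst W.hom (f i) ≫ W.hom)
      (Over.homMk (pullback.fst W.hom (f i)) rfl) i (pullback.snd W.hom (f i)) (hxi i))
  refine ⟨Over.homMk M₀ hw, ?_⟩
  intro T t w i x₀ hx
  have hwt : w.left ≫ W.hom = t := Over.w w
  obtain ⟨l, hl1, hl2⟩ : ∃ l : T ⟶ pullback W.hom (f i),
      l ≫ pullback.fst W.hom (f i) = w.left ∧ l ≫ pullback.snd W.hom (f i) = x₀ :=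
    ⟨pullback.lift w.left x₀ (by rw [hwt, hx]), pullback.lift_fst _ _ _, pullback.lift_snd _ _ _⟩
  have hlt : l ≫ pullback.fst W.hom (f i) ≫ W.hom = t := by
    rw [← Category.assoc, hl1, hwt]
  have h1 := hnat l (pullback.fst W.hom (f i) ≫ W.hom) t hlt
    (Over.homMk (pullback.fst W.hom (f i)) rfl) i (pullback.snd W.hom (f i)) (hxi i)
    (by rw [hl2, hx])
  have hw' : rs l hlt (Over.homMk (pullback.fst W.hom (f i)) rfl :
      Over.mk (pullback.fst W.hom (f i) ≫ W.hom) ⟶ W) = w := pt_ext hl1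
  have h2 := hcongr t _ _ i (l ≫ pullback.snd W.hom (f i)) x₀ (by rw [hl2, hx]) hx hw' hl2
  apply pt_ext
  rw [← h2, h1]
  show w.left ≫ M₀ = l ≫ _
  rw [← hl1, Category.assoc, hM₀' i]

end Pts

section TDiv

variable {C : Type*} [Category C] [CartesianMonoidalCategory C] {G P : C} [GrpObj G]
  (act : G ⊗ P ⟶ P) (hps : IsIso (lift act (snd G P)))

/-- torsor division: the unique point of the group carrying `p'` to `p` -/
noncomputable def tdiv {T : C} (p p' : T ⟶ P) : T ⟶ G :=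
  haveI := hps
  lift p p' ≫ inv (lift act (snd G P)) ≫ fst G P

theorem tdiv_smul {T : C} (p p' : T ⟶ P) : lift (tdiv act hps p p') p' ≫ act = p := by
  haveI := hps
  obtain ⟨z, hz⟩ : ∃ z : T ⟶ G ⊗ P, z = lift p p' ≫ inv (lift act (snd G P)) := ⟨_, rfl⟩
  have hze : z ≫ lift act (snd G P) = lift p p' := by
    rw [hz, Category.assoc, IsIso.inv_hom_id, Category.comp_id]
  have h1 : z ≫ act = p := by
    have := congrArg (fun s => s ≫ fst P P) hze
    simpa using this
  have h2 : z ≫ snd G P = p' := by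
    have := congrArg (fun s => s ≫ snd P P) hze
    simpa using this
  have h3 : z = lift (tdiv act hps p p') p' := by
    apply CartesianMonoidalCategory.hom_ext
    · rw [lift_fst, hz, Category.assoc]
      rfl
    · rw [lift_snd, h2]
  rw [← h3, h1]

theorem tdiv_unique {T : C} (p p' : T ⟶ P) (g : T ⟶ G) (hg : lift g p' ≫ act = p) :
    g = tdiv act hps p p' := by
  haveI := hps
  have h1 : lift g p' ≫ lift act (snd G P) = lift p p' := by
    rw [comp_lift, hg, lift_snd]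
  have h2 : lift g p' = lift p p' ≫ inv (lift act (snd G P)) := by
    rw [← h1, Category.assoc, IsIso.hom_inv_id, Category.comp_id]
  have h3 := congrArg (fun s => s ≫ fst G P) h2
  simp only [lift_fst, Category.assoc] at h3
  exact h3

theorem tdiv_comp {T T' : C} (w : T' ⟶ T) (p p' : T ⟶ P) :
    w ≫ tdiv act hps p p' = tdiv act hps (w ≫ p) (w ≫ p') := by
  haveI := hps
  unfold tdiv
  rw [← Category.assoc, comp_lift]

variable (one_act : (η[G] ▷ P) ≫ act = (λ_ P).hom)
  (mul_act : (μ[G] ▷ P) ≫ act = (α_ G G P).hom ≫ (G ◁ act) ≫ act)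

include one_act in
theorem tdiv_self {T : C} (p : T ⟶ P) : tdiv act hps p p = 1 := by
  refine (tdiv_unique act hps p p 1 ?_).symm
  rw [Hom.one_def, ← lift_whiskerRight_assoc, one_act, leftUnitor_hom, lift_snd]

include mul_act in
theorem lift_mul_act' {T : C} (g g' : T ⟶ G) (x : T ⟶ P) :
    lift (g * g') x ≫ act = lift g (lift g' x ≫ act) ≫ act := by
  rw [Hom.mul_def, ← lift_whiskerRight_assoc, mul_act, lift_lift_associator_hom_assoc,
    lift_whiskerLeft_assoc]

include mul_act in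
theorem tdiv_mul {T : C} (p p' p'' : T ⟶ P) :
    tdiv act hps p p' * tdiv act hps p' p'' = tdiv act hps p p'' := by
  refine tdiv_unique act hps p p'' _ ?_
  rw [lift_mul_act' act mul_act, tdiv_smul, tdiv_smul]

include mul_act in
theorem tdiv_smul_left {T : C} (g : T ⟶ G) (p p' : T ⟶ P) :
    tdiv act hps (lift g p ≫ act) p' = g * tdiv act hps p p' := by
  refine (tdiv_unique act hps _ p' _ ?_).symm
  rw [lift_mul_act' act mul_act, tdiv_smul]

end TDiv

end Groth.Agent.Helper2.PushTors
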