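import Mathlib
import Groth.Prelude.Def_NonAbH2
import Groth.Prelude.Def_ChGrp
import Groth.Prelude.Def_DescFam
import Groth.Agent.Lib.Helper2.PushTors.Pts

/-!
# The descent datum of the push-forward of a torsor along a homomorphism (helper2)
-/

set_option autoImplicit false
set_option backward.isDefEq.respectTransparency.types false
set_option synthInstance.maxHeartbeats 400000
set_option maxHeartbeats 4000000
set_option linter.style.haveILetI false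
set_option linter.unusedSectionVars false
set_option linter.unusedVariables false
set_option linter.unusedSimpArgs false
set_option linter.unnecessarySimpa false

universe u
open CategoryTheory CategoryTheory.Limits AlgebraicGeometry
open MonoidalCategory CartesianMonoidalCategory MonObj GrpObj

namespace Groth.Agent.Helper2.PushTors

/-- a pseudo-torsor with sections over the members of an fpqc covering family, and a homomorphism
out of its structure group -/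
structure Setup (B : Scheme.{u}) where
  J : Over B
  J' : Over B
  [gJ : GrpObj J]
  [gJ' : GrpObj J']
  um : J ⟶ J'
  [hu : IsMonHom um]
  PX : Over B
  aP : AlgGrp.Action J PX
  hps : IsIso (lift aP.act (snd J PX))
  κ : Type u
  X : κ → Scheme.{u}
  f : ∀ i, X i ⟶ B
  hf : Presieve.ofArrows X f ∈ Scheme.fpqcPrecoverage B
  σ : ∀ i, X i ⟶ PX.left
  hσ : ∀ i, σ i ≫ PX.hom = f i

attribute [instance] Setup.gJ Setup.gJ' Setup.hu

namespace Setup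

variable {B : Scheme.{u}} (A : Setup B)

/-- the section pulled back to a test scheme -/
def sec {T : Scheme.{u}} {t : T ⟶ B} (i : A.κ) (x₀ : T ⟶ A.X i) (hx : x₀ ≫ A.f i = t) :
    Over.mk t ⟶ A.PX :=
  Over.homMk (x₀ ≫ A.σ i) (by
    show (x₀ ≫ A.σ i) ≫ A.PX.hom = t
    rw [Category.assoc, A.hσ i, hx])

theorem rs_sec {T T' : Scheme.{u}} (g : T' ⟶ T) {t : T ⟶ B} {t' : T' ⟶ B} (hg : g ≫ t = t')
    (i : A.κ) (x₀ : T ⟶ A.X i) (hx : x₀ ≫ A.f i = t) (hx' : (g ≫ x₀) ≫ A.f i = t') :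
    rs g hg (A.sec i x₀ hx) = A.sec i (g ≫ x₀) hx' :=
  pt_ext (Category.assoc _ _ _).symm

/-- torsor division for the given pseudo-torsor -/
noncomputable def td {T : Scheme.{u}} {t : T ⟶ B} (p p' : Over.mk t ⟶ A.PX) : Over.mk t ⟶ A.J :=
  tdiv A.aP.act A.hps p p'

theorem rs_td {T T' : Scheme.{u}} (g : T' ⟶ T) {t : T ⟶ B} {t' : T' ⟶ B} (hg : g ≫ t = t')
    (p p' : Over.mk t ⟶ A.PX) : rs g hg (A.td p p') = A.td (rs g hg p) (rs g hg p') :=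
  tdiv_comp A.aP.act A.hps _ p p'

theorem td_self {T : Scheme.{u}} {t : T ⟶ B} (p : Over.mk t ⟶ A.PX) : A.td p p = 1 :=
  tdiv_self A.aP.act A.hps A.aP.one_act p

theorem td_mul {T : Scheme.{u}} {t : T ⟶ B} (p p' p'' : Over.mk t ⟶ A.PX) :
    A.td p p' * A.td p' p'' = A.td p p'' :=
  tdiv_mul A.aP.act A.hps A.aP.mul_act p p' p''

theorem td_smul_left {T : Scheme.{u}} {t : T ⟶ B} (g : Over.mk t ⟶ A.J)
    (p p' : Over.mk t ⟶ A.PX) : A.td (lift g p ≫ A.aP.act) p' = g * A.td p p' :=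
  tdiv_smul_left A.aP.act A.hps A.aP.mul_act g p p'

/-- the transition cocycle between two charts -/
noncomputable def cc {T : Scheme.{u}} {t : T ⟶ B} (i : A.κ) (x₀ : T ⟶ A.X i)
    (hx₀ : x₀ ≫ A.f i = t) (j : A.κ) (x₁ : T ⟶ A.X j) (hx₁ : x₁ ≫ A.f j = t) :
    Over.mk t ⟶ A.J' :=
  A.td (A.sec i x₀ hx₀) (A.sec j x₁ hx₁) ≫ A.um

theorem cc_self {T : Scheme.{u}} {t : T ⟶ B} (i : A.κ) (x₀ : T ⟶ A.X i)
    (hx₀ hx₀' : x₀ ≫ A.f i = t) : A.cc i x₀ hx₀ i x₀ hx₀' = 1 := by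
  unfold cc
  rw [A.td_self]
  exact one_comp _

theorem cc_mul {T : Scheme.{u}} {t : T ⟶ B} (i : A.κ) (x₀ : T ⟶ A.X i)
    (hx₀ : x₀ ≫ A.f i = t) (j : A.κ) (x₁ : T ⟶ A.X j) (hx₁ : x₁ ≫ A.f j = t)
    (k : A.κ) (x₂ : T ⟶ A.X k) (hx₂ : x₂ ≫ A.f k = t) :
    A.cc i x₀ hx₀ j x₁ hx₁ * A.cc j x₁ hx₁ k x₂ hx₂ = A.cc i x₀ hx₀ k x₂ hx₂ := by
  unfold cc
  rw [← mul_comp, A.td_mul]

theorem rs_cc {T T' : Scheme.{u}} (g : T' ⟶ T) {t : T ⟶ B} {t' : T' ⟶ B} (hg : g ≫ t = t')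
    (i : A.κ) (x₀ : T ⟶ A.X i) (hx₀ : x₀ ≫ A.f i = t) (j : A.κ) (x₁ : T ⟶ A.X j)
    (hx₁ : x₁ ≫ A.f j = t) (hx₀' : (g ≫ x₀) ≫ A.f i = t') (hx₁' : (g ≫ x₁) ≫ A.f j = t') :
    rs g hg (A.cc i x₀ hx₀ j x₁ hx₁) = A.cc i (g ≫ x₀) hx₀' j (g ≫ x₁) hx₁' := by
  unfold cc
  rw [rs_comp, A.rs_td, A.rs_sec g hg i x₀ hx₀ hx₀', A.rs_sec g hg j x₁ hx₁ hx₁']

/-- the member over `X i` of the descent datum -/
noncomputable abbrev dobj (i : A.κ) : Over (A.X i) := Over.mk (pullback.snd A.J'.hom (A.f i))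

/-- points of the member over `X i` are points of `J'` -/
noncomputable def E {T : Scheme.{u}} {t : T ⟶ B} (i : A.κ) (x₀ : T ⟶ A.X i)
    (hx : x₀ ≫ A.f i = t) : Desc.Lifts (A.dobj i) x₀ ≃ (Over.mk t ⟶ A.J') where
  toFun v := Over.homMk (v.1 ≫ pullback.fst A.J'.hom (A.f i)) (by
    have e : v.1 ≫ pullback.snd A.J'.hom (A.f i) = x₀ := v.2
    show (v.1 ≫ pullback.fst A.J'.hom (A.f i)) ≫ A.J'.hom = t
    rw [Category.assoc, pullback.condition, ← Category.assoc, e, hx])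
  invFun g := ⟨pullback.lift g.left x₀ (by rw [hx]; exact Over.w g), pullback.lift_snd _ _ _⟩
  left_inv v := by
    have e : v.1 ≫ pullback.snd A.J'.hom (A.f i) = x₀ := v.2
    apply Subtype.ext
    apply pullback.hom_ext
    · exact pullback.lift_fst _ _ _
    · exact (pullback.lift_snd _ _ _).trans e.symm
  right_inv g := pt_ext (pullback.lift_fst _ _ _)

theorem E_left {T : Scheme.{u}} {t : T ⟶ B} (i : A.κ) (x₀ : T ⟶ A.X i)
    (hx : x₀ ≫ A.f i = t) (v : Desc.Lifts (A.dobj i) x₀) :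
    (A.E i x₀ hx v).left = v.1 ≫ pullback.fst A.J'.hom (A.f i) := rfl

theorem E_symm_fst {T : Scheme.{u}} {t : T ⟶ B} (i : A.κ) (x₀ : T ⟶ A.X i)
    (hx : x₀ ≫ A.f i = t) (a : Over.mk t ⟶ A.J') :
    ((A.E i x₀ hx).symm a).1 ≫ pullback.fst A.J'.hom (A.f i) = a.left :=
  pullback.lift_fst _ _ _

theorem E_symm_snd {T : Scheme.{u}} {t : T ⟶ B} (i : A.κ) (x₀ : T ⟶ A.X i)
    (hx : x₀ ≫ A.f i = t) (a : Over.mk t ⟶ A.J') :
    ((A.E i x₀ hx).symm a).1 ≫ pullback.snd A.J'.hom (A.f i) = x₀ :=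
  pullback.lift_snd _ _ _

theorem E_rs {T T' : Scheme.{u}} (g : T' ⟶ T) {t : T ⟶ B} {t' : T' ⟶ B} (hg : g ≫ t = t')
    (i : A.κ) (x₀ : T ⟶ A.X i) (hx : x₀ ≫ A.f i = t) (hx' : (g ≫ x₀) ≫ A.f i = t')
    (v : Desc.Lifts (A.dobj i) x₀) (v' : Desc.Lifts (A.dobj i) (g ≫ x₀)) (hv : v'.1 = g ≫ v.1) :
    A.E i (g ≫ x₀) hx' v' = rs g hg (A.E i x₀ hx v) := by
  apply pt_ext
  rw [rs_left, E_left, E_left, hv, Category.assoc]

theorem E_symm_rs {T T' : Scheme.{u}} (g : T' ⟶ T) {t : T ⟶ B} {t' : T' ⟶ B} (hg : g ≫ t = t')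
    (i : A.κ) (x₀ : T ⟶ A.X i) (hx : x₀ ≫ A.f i = t) (hx' : (g ≫ x₀) ≫ A.f i = t')
    (a : Over.mk t ⟶ A.J') :
    ((A.E i (g ≫ x₀) hx').symm (rs g hg a)).1 = g ≫ ((A.E i x₀ hx).symm a).1 := by
  apply pullback.hom_ext
  · rw [E_symm_fst, Category.assoc, E_symm_fst, rs_left]
  · rw [E_symm_snd, Category.assoc, E_symm_snd]

/-- the gluing bijection, with the common image in the base as a parameter -/
noncomputable def Phi {T : Scheme.{u}} (t : T ⟶ B) (i : A.κ) (x₀ : T ⟶ A.X i)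
    (hx₀ : x₀ ≫ A.f i = t) (j : A.κ) (x₁ : T ⟶ A.X j) (hx₁ : x₁ ≫ A.f j = t) :
    Desc.Lifts (A.dobj i) x₀ ≃ Desc.Lifts (A.dobj j) x₁ :=
  (A.E i x₀ hx₀).trans ((Equiv.mulRight (A.cc i x₀ hx₀ j x₁ hx₁)).trans (A.E j x₁ hx₁).symm)

theorem Phi_apply {T : Scheme.{u}} (t : T ⟶ B) (i : A.κ) (x₀ : T ⟶ A.X i)
    (hx₀ : x₀ ≫ A.f i = t) (j : A.κ) (x₁ : T ⟶ A.X j) (hx₁ : x₁ ≫ A.f j = t)
    (v : Desc.Lifts (A.dobj i) x₀) :
    A.Phi t i x₀ hx₀ j x₁ hx₁ v =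
      (A.E j x₁ hx₁).symm (A.E i x₀ hx₀ v * A.cc i x₀ hx₀ j x₁ hx₁) := rfl

theorem Phi_congr {T : Scheme.{u}} (t t' : T ⟶ B) (e : t = t') (i : A.κ) (x₀ : T ⟶ A.X i)
    (hx₀ : x₀ ≫ A.f i = t) (j : A.κ) (x₁ : T ⟶ A.X j) (hx₁ : x₁ ≫ A.f j = t)
    (v : Desc.Lifts (A.dobj i) x₀) :
    A.Phi t i x₀ hx₀ j x₁ hx₁ v = A.Phi t' i x₀ (hx₀.trans e) j x₁ (hx₁.trans e) v := by
  subst e
  rfl

/-- the descent datum of the push-forward -/
noncomputable def D : Desc.SchDDFam A.f where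
  obj := A.dobj
  φ T i j x₀ x₁ h := A.Phi (x₀ ≫ A.f i) i x₀ rfl j x₁ h.symm
  φ_natural T T' g i j x₀ x₁ h y₀ y₁ hy₀ hy₁ h' v v' hv := by
    subst hy₀ hy₁
    have hg : g ≫ (x₀ ≫ A.f i) = (g ≫ x₀) ≫ A.f i := (Category.assoc _ _ _).symm
    rw [Phi_apply, Phi_apply,
      A.E_rs g hg i x₀ rfl rfl v v' hv,
      ← A.rs_cc g hg i x₀ rfl j x₁ h.symm rfl h'.symm, ← rs_mul]
    exact A.E_symm_rs g hg j x₁ h.symm h'.symm _
  φ_self T i x v := by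
    rw [Phi_apply, A.cc_self, _root_.mul_one]
    exact (A.E i x rfl).symm_apply_apply v
  φ_comp T i j k x₀ x₁ x₂ h₀₁ h₁₂ v := by
    rw [A.Phi_congr (x₁ ≫ A.f j) (x₀ ≫ A.f i) h₀₁.symm j x₁ rfl k x₂ h₁₂.symm]
    rw [Phi_apply, Phi_apply, Phi_apply, Equiv.apply_symm_apply, _root_.mul_assoc, A.cc_mul]

instance (i : A.κ) [IsAffineHom A.J'.hom] : IsAffineHom (A.D.obj i).hom := by
  show IsAffineHom (pullback.snd A.J'.hom (A.f i))
  exact MorphismProperty.pullback_snd (P := @IsAffineHom) _ _ inferInstance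

end Setup

end Groth.Agent.Helper2.PushTors
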