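import Mathlib
import Groth.Prelude.Def_NonAbH2
import Groth.Prelude.Def_ChGrp
import Groth.Prelude.Def_DescFam
import Groth.Agent.Lib.Helper2.PushTors.Datum
import Groth.Agent.Lib.Helper5.Misc.DescFam

/-!
# Charts of the scheme obtained by descent from the push-forward datum (helper2)
-/

set_option autoImplicit false
set_option backward.isDefEq.respectTransparency.types false
set_option synthInstance.maxHeartbeats 400000
set_option maxHeartbeats 4000000
set_option linter.style.haveILetI false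
set_option linter.unusedSectionVars false
set_option linter.unusedVariables false
set_option linter.unusedSimpArgs false
set_option linter.unnecessarySimpa false

universe u
open CategoryTheory CategoryTheory.Limits AlgebraicGeometry
open MonoidalCategory CartesianMonoidalCategory MonObj GrpObj
open Groth.Agent.Lib.Helper5.DescFam Desc

namespace Groth.Agent.Helper2.PushTors

/-- local trivialisations on points of a scheme over the base, with the transition cocycle of the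
push-forward -/
structure Charts {B : Scheme.{u}} (A : Setup B) (U : Over B) where
  Θ : ∀ ⦃T : Scheme.{u}⦄ (t : T ⟶ B) (i : A.κ) (x₀ : T ⟶ A.X i), x₀ ≫ A.f i = t →
    ((Over.mk t ⟶ U) ≃ (Over.mk t ⟶ A.J'))
  nat : ∀ ⦃T T' : Scheme.{u}⦄ (g : T' ⟶ T) (t : T ⟶ B) (t' : T' ⟶ B) (hg : g ≫ t = t')
    (i : A.κ) (x₀ : T ⟶ A.X i) (hx : x₀ ≫ A.f i = t) (hx' : (g ≫ x₀) ≫ A.f i = t')
    (q : Over.mk t ⟶ U),
    Θ t' i (g ≫ x₀) hx' (rs g hg q) = rs g hg (Θ t i x₀ hx q)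
  trans : ∀ ⦃T : Scheme.{u}⦄ (t : T ⟶ B) (i : A.κ) (x₀ : T ⟶ A.X i) (hx₀ : x₀ ≫ A.f i = t)
    (j : A.κ) (x₁ : T ⟶ A.X j) (hx₁ : x₁ ≫ A.f j = t) (q : Over.mk t ⟶ U),
    Θ t j x₁ hx₁ q = Θ t i x₀ hx₀ q * A.cc i x₀ hx₀ j x₁ hx₁

section

variable {B : Scheme.{u}} {κ : Type u} {X : κ → Scheme.{u}} (f : ∀ i, X i ⟶ B) (U : Over B)

/-- points of the canonical descent datum are points of the scheme -/
noncomputable def ptsCan {T : Scheme.{u}} {t : T ⟶ B} (i : κ) (x₀ : T ⟶ X i)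
    (hx : x₀ ≫ f i = t) :
    Lifts (Over.mk (pullback.fst (f i) U.hom)) x₀ ≃ (Over.mk t ⟶ U) where
  toFun v := Over.homMk (v.1 ≫ pullback.snd (f i) U.hom) (by
    have e : v.1 ≫ pullback.fst (f i) U.hom = x₀ := v.2
    show (v.1 ≫ pullback.snd (f i) U.hom) ≫ U.hom = t
    rw [Category.assoc, ← pullback.condition, ← Category.assoc, e, hx])
  invFun q := ⟨pullback.lift x₀ q.left (by rw [hx]; exact (Over.w q).symm),
    pullback.lift_fst _ _ _⟩
  left_inv v := by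
    have e : v.1 ≫ pullback.fst (f i) U.hom = x₀ := v.2
    apply Subtype.ext
    apply pullback.hom_ext
    · exact (pullback.lift_fst _ _ _).trans e.symm
    · exact pullback.lift_snd _ _ _
  right_inv q := pt_ext (pullback.lift_snd _ _ _)

theorem ptsCan_symm_fst {T : Scheme.{u}} {t : T ⟶ B} (i : κ) (x₀ : T ⟶ X i)
    (hx : x₀ ≫ f i = t) (q : Over.mk t ⟶ U) :
    ((ptsCan f U i x₀ hx).symm q).1 ≫ pullback.fst (f i) U.hom = x₀ :=
  pullback.lift_fst _ _ _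

theorem ptsCan_symm_snd {T : Scheme.{u}} {t : T ⟶ B} (i : κ) (x₀ : T ⟶ X i)
    (hx : x₀ ≫ f i = t) (q : Over.mk t ⟶ U) :
    ((ptsCan f U i x₀ hx).symm q).1 ≫ pullback.snd (f i) U.hom = q.left :=
  pullback.lift_snd _ _ _

theorem ptsCan_symm_rs {T T' : Scheme.{u}} (g : T' ⟶ T) {t : T ⟶ B} {t' : T' ⟶ B}
    (hg : g ≫ t = t') (i : κ) (x₀ : T ⟶ X i) (hx : x₀ ≫ f i = t)
    (hx' : (g ≫ x₀) ≫ f i = t') (q : Over.mk t ⟶ U) :
    ((ptsCan f U i (g ≫ x₀) hx').symm (rs g hg q)).1 = g ≫ ((ptsCan f U i x₀ hx).symm q).1 := by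
  apply pullback.hom_ext
  · rw [ptsCan_symm_fst, Category.assoc, ptsCan_symm_fst]
  · rw [ptsCan_symm_snd, Category.assoc, ptsCan_symm_snd, rs_left]

theorem ptsCan_symm_canMap {T : Scheme.{u}} {t : T ⟶ B} (i : κ) (x₀ : T ⟶ X i)
    (hx₀ : x₀ ≫ f i = t) (j : κ) (x₁ : T ⟶ X j) (hx₁ : x₁ ≫ f j = t)
    (h : x₀ ≫ f i = x₁ ≫ f j) (q : Over.mk t ⟶ U) :
    (ptsCan f U j x₁ hx₁).symm q = canMapFam f U x₀ x₁ h ((ptsCan f U i x₀ hx₀).symm q) := by
  apply Subtype.ext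
  apply pullback.hom_ext
  · rw [ptsCan_symm_fst, canMapFam_val, pullback.lift_fst]
  · rw [ptsCan_symm_snd, canMapFam_val, pullback.lift_snd, ptsCan_symm_snd]

/-- an isomorphism of descent data induces bijections on points -/
noncomputable def pushEquiv {D D' : SchDDFam f} (θ : D ≅ D') {T : Scheme.{u}} (i : κ)
    (x : T ⟶ X i) : Lifts (D.obj i) x ≃ Lifts (D'.obj i) x where
  toFun := SchDDFam.Hom.push θ.hom
  invFun := SchDDFam.Hom.push θ.inv
  left_inv v := by rw [← push_comp, θ.hom_inv_id, push_id]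
  right_inv v := by rw [← push_comp, θ.inv_hom_id, push_id]

end

variable {B : Scheme.{u}} (A : Setup B)

/-- the charts of a scheme whose canonical descent datum is the push-forward datum -/
noncomputable def chartsOfIso (U : Over B) (θ : (toDDFam A.f).obj U ≅ A.D) : Charts A U where
  Θ T t i x₀ hx := (ptsCan A.f U i x₀ hx).symm.trans ((pushEquiv A.f θ i x₀).trans (A.E i x₀ hx))
  nat T T' g t t' hg i x₀ hx hx' q := by
    show A.E i (g ≫ x₀) hx' (SchDDFam.Hom.push θ.hom ((ptsCan A.f U i (g ≫ x₀) hx').symm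
      (rs g hg q))) =
      rs g hg (A.E i x₀ hx (SchDDFam.Hom.push θ.hom ((ptsCan A.f U i x₀ hx).symm q)))
    apply A.E_rs g hg i x₀ hx hx'
    apply push_nat θ.hom g
    exact ptsCan_symm_rs A.f U g hg i x₀ hx hx' q
  trans T t i x₀ hx₀ j x₁ hx₁ q := by
    have h : x₀ ≫ A.f i = x₁ ≫ A.f j := hx₀.trans hx₁.symm
    have hv : (ptsCan A.f U j x₁ hx₁).symm q =
        ((toDDFam A.f).obj U).φ x₀ x₁ h ((ptsCan A.f U i x₀ hx₀).symm q) :=
      ptsCan_symm_canMap A.f U i x₀ hx₀ j x₁ hx₁ h q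
    show A.E j x₁ hx₁ (SchDDFam.Hom.push θ.hom ((ptsCan A.f U j x₁ hx₁).symm q)) =
      A.E i x₀ hx₀ (SchDDFam.Hom.push θ.hom ((ptsCan A.f U i x₀ hx₀).symm q)) *
        A.cc i x₀ hx₀ j x₁ hx₁
    have e1 : SchDDFam.Hom.push θ.hom ((ptsCan A.f U j x₁ hx₁).symm q) =
        A.D.φ x₀ x₁ h (SchDDFam.Hom.push θ.hom ((ptsCan A.f U i x₀ hx₀).symm q)) :=
      (congrArg (SchDDFam.Hom.push θ.hom) hv).trans (push_φ θ.hom x₀ x₁ h _).symm
    have h2 : A.D.φ x₀ x₁ h (SchDDFam.Hom.push θ.hom ((ptsCan A.f U i x₀ hx₀).symm q)) =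
        A.Phi t i x₀ hx₀ j x₁ hx₁
          (SchDDFam.Hom.push θ.hom ((ptsCan A.f U i x₀ hx₀).symm q)) :=
      A.Phi_congr (x₀ ≫ A.f i) t hx₀ i x₀ rfl j x₁ h.symm _
    refine (congrArg (A.E j x₁ hx₁) (e1.trans h2)).trans ?_
    rw [Setup.Phi_apply, Equiv.apply_symm_apply]

theorem exists_charts (hE : A.D.IsEffective) : ∃ U : Over B, Nonempty (Charts A U) := by
  obtain ⟨U, ⟨θ⟩⟩ := hE
  exact ⟨U, ⟨chartsOfIso A U θ⟩⟩

end Groth.Agent.Helper2.PushTors
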