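import Mathlib
import Groth.Prelude.Def_NonAbH2
import Groth.Prelude.Def_ChGrp
import Groth.Prelude.Def_DescFam
import Groth.Agent.Lib.Helper2.PushTors.Charts
import Groth.Agent.Lib.Helper2.Desc.AffFam
import Groth.Agent.Lib.Helper2.GrpQ.QuotPts1

/-!
# The push-forward torsor: action, torsor property and the equivariant map (helper2)
-/

set_option autoImplicit false
set_option backward.isDefEq.respectTransparency.types false
set_option synthInstance.maxHeartbeats 400000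
set_option maxHeartbeats 4000000
set_option linter.style.haveILetI false
set_option linter.unusedSectionVars false
set_option linter.unusedVariables false
set_option linter.unusedSimpArgs false
set_option linter.unnecessarySimpa false

universe u
open CategoryTheory CategoryTheory.Limits AlgebraicGeometry
open MonoidalCategory CartesianMonoidalCategory MonObj GrpObj

namespace Groth.Agent.Helper2.PushTors

namespace Charts

variable {B : Scheme.{u}} {A : Setup B} {U : Over B} (C : Charts A U)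

theorem symm_nat {T T' : Scheme.{u}} (g : T' ⟶ T) (t : T ⟶ B) (t' : T' ⟶ B) (hg : g ≫ t = t')
    (i : A.κ) (x₀ : T ⟶ A.X i) (hx : x₀ ≫ A.f i = t) (hx' : (g ≫ x₀) ≫ A.f i = t')
    (a : Over.mk t ⟶ A.J') :
    (C.Θ t' i (g ≫ x₀) hx').symm (rs g hg a) = rs g hg ((C.Θ t i x₀ hx).symm a) := by
  apply (C.Θ t' i (g ≫ x₀) hx').injective
  rw [Equiv.apply_symm_apply, C.nat g t t' hg i x₀ hx hx', Equiv.apply_symm_apply]

theorem symm_trans {T : Scheme.{u}} (t : T ⟶ B) (i : A.κ) (x₀ : T ⟶ A.X i)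
    (hx₀ : x₀ ≫ A.f i = t) (j : A.κ) (x₁ : T ⟶ A.X j) (hx₁ : x₁ ≫ A.f j = t)
    (a : Over.mk t ⟶ A.J') :
    (C.Θ t j x₁ hx₁).symm (a * A.cc i x₀ hx₀ j x₁ hx₁) = (C.Θ t i x₀ hx₀).symm a := by
  apply (C.Θ t j x₁ hx₁).injective
  rw [Equiv.apply_symm_apply, C.trans t i x₀ hx₀ j x₁ hx₁, Equiv.apply_symm_apply]

/-- the action morphism, characterised in the charts by left multiplication -/
theorem exists_act : ∃ M : A.J' ⊗ U ⟶ U, ∀ ⦃T : Scheme.{u}⦄ (t : T ⟶ B)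
    (a : Over.mk t ⟶ A.J') (q : Over.mk t ⟶ U) (i : A.κ) (x₀ : T ⟶ A.X i)
    (hx : x₀ ≫ A.f i = t), C.Θ t i x₀ hx (lift a q ≫ M) = a * C.Θ t i x₀ hx q := by
  obtain ⟨M, hM⟩ := glue_pts A.f A.hf (W := A.J' ⊗ U) (Y := U)
    (fun T t w i x₀ hx =>
      (C.Θ t i x₀ hx).symm ((w ≫ fst A.J' U) * C.Θ t i x₀ hx (w ≫ snd A.J' U)))
    (by
      intro T T' g t t' hg w i x₀ hx hx'
      rw [← C.symm_nat g t t' hg i x₀ hx hx', rs_mul, ← C.nat g t t' hg i x₀ hx hx', rs_comp,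
        rs_comp])
    (by
      intro T t w i j x₀ x₁ hx₀ hx₁
      rw [← C.symm_trans t i x₀ hx₀ j x₁ hx₁, C.trans t i x₀ hx₀ j x₁ hx₁, _root_.mul_assoc])
  refine ⟨M, ?_⟩
  intro T t a q i x₀ hx
  rw [hM t (lift a q) i x₀ hx, Equiv.apply_symm_apply, lift_fst, lift_snd]

section Act

variable (M : A.J' ⊗ U ⟶ U)
  (hM : ∀ ⦃T : Scheme.{u}⦄ (t : T ⟶ B) (a : Over.mk t ⟶ A.J') (q : Over.mk t ⟶ U) (i : A.κ)
    (x₀ : T ⟶ A.X i) (hx : x₀ ≫ A.f i = t), C.Θ t i x₀ hx (lift a q ≫ M) = a * C.Θ t i x₀ hx q)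

include hM in
theorem one_act' : (η[A.J'] ▷ U) ≫ M = (λ_ U).hom := by
  apply hom_ext_pts A.f A.hf
  intro T t w i x₀ hx
  have e : w ≫ (η[A.J'] ▷ U) = lift (1 : Over.mk t ⟶ A.J') (w ≫ snd _ _) := by
    apply CartesianMonoidalCategory.hom_ext
    · rw [Category.assoc, whiskerRight_fst, lift_fst, Hom.one_def, ← Category.assoc]
      congr 1
      exact toUnit_unique _ _
    · rw [Category.assoc, whiskerRight_snd, lift_snd]
  rw [← Category.assoc, e, leftUnitor_hom]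
  apply (C.Θ t i x₀ hx).injective
  rw [hM, _root_.one_mul]

include hM in
theorem mul_act' : (μ[A.J'] ▷ U) ≫ M = (α_ A.J' A.J' U).hom ≫ (A.J' ◁ M) ≫ M := by
  apply hom_ext_pts A.f A.hf
  intro T t w i x₀ hx
  obtain ⟨a, ha⟩ : ∃ a : Over.mk t ⟶ A.J', a = w ≫ fst _ _ ≫ fst _ _ := ⟨_, rfl⟩
  obtain ⟨b, hb⟩ : ∃ b : Over.mk t ⟶ A.J', b = w ≫ fst _ _ ≫ snd _ _ := ⟨_, rfl⟩
  obtain ⟨q, hq⟩ : ∃ q : Over.mk t ⟶ U, q = w ≫ snd _ _ := ⟨_, rfl⟩
  have hw : w = lift (lift a b) q := by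
    apply CartesianMonoidalCategory.hom_ext
    · rw [lift_fst]
      apply CartesianMonoidalCategory.hom_ext
      · rw [lift_fst, ha, Category.assoc]
      · rw [lift_snd, hb, Category.assoc]
    · rw [lift_snd, hq]
  have e1 : lift (lift a b) q ≫ (μ[A.J'] ▷ U) ≫ M = lift (a * b) q ≫ M := by
    rw [lift_whiskerRight_assoc, ← Hom.mul_def]
  have e2 : lift (lift a b) q ≫ (α_ A.J' A.J' U).hom ≫ (A.J' ◁ M) ≫ M =
      lift a (lift b q ≫ M) ≫ M := by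
    rw [lift_lift_associator_hom_assoc, lift_whiskerLeft_assoc]
  rw [hw, e1, e2]
  apply (C.Θ t i x₀ hx).injective
  rw [hM, hM, hM, _root_.mul_assoc]

/-- the action of the target group on the descended scheme -/
noncomputable def actOf : AlgGrp.Action A.J' U where
  act := M
  one_act := C.one_act' M hM
  mul_act := C.mul_act' M hM

/-- the division morphism of the descended scheme -/
theorem exists_div : ∃ δ : U ⊗ U ⟶ A.J', ∀ ⦃T : Scheme.{u}⦄ (t : T ⟶ B)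
    (q q' : Over.mk t ⟶ U) (i : A.κ) (x₀ : T ⟶ A.X i) (hx : x₀ ≫ A.f i = t),
    lift q q' ≫ δ = C.Θ t i x₀ hx q * (C.Θ t i x₀ hx q')⁻¹ := by
  obtain ⟨δ, hδ⟩ := glue_pts A.f A.hf (W := U ⊗ U) (Y := A.J')
    (fun T t w i x₀ hx => C.Θ t i x₀ hx (w ≫ fst U U) * (C.Θ t i x₀ hx (w ≫ snd U U))⁻¹)
    (by
      intro T T' g t t' hg w i x₀ hx hx'
      rw [rs_mul, rs_inv, ← C.nat g t t' hg i x₀ hx hx', ← C.nat g t t' hg i x₀ hx hx', rs_comp,
        rs_comp])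
    (by
      intro T t w i j x₀ x₁ hx₀ hx₁
      rw [C.trans t i x₀ hx₀ j x₁ hx₁ (w ≫ fst U U), C.trans t i x₀ hx₀ j x₁ hx₁ (w ≫ snd U U)]
      group)
  refine ⟨δ, ?_⟩
  intro T t q q' i x₀ hx
  rw [hδ t (lift q q') i x₀ hx, lift_fst, lift_snd]

include hM in
theorem isPseudoTorsor : NonAbH1.IsPseudoTorsorSch (C.actOf M hM) := by
  obtain ⟨δ, hδ⟩ := C.exists_div
  refine ⟨⟨lift δ (snd U U), ?_, ?_⟩⟩
  · apply hom_ext_pts A.f A.hf
    intro T t w i x₀ hx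
    obtain ⟨a, ha⟩ : ∃ a : Over.mk t ⟶ A.J', a = w ≫ fst _ _ := ⟨_, rfl⟩
    obtain ⟨q, hq⟩ : ∃ q : Over.mk t ⟶ U, q = w ≫ snd _ _ := ⟨_, rfl⟩
    have hw : w = lift a q := by
      apply CartesianMonoidalCategory.hom_ext
      · rw [lift_fst, ha]
      · rw [lift_snd, hq]
    have e1 : lift a q ≫ lift (C.actOf M hM).act (snd A.J' U) = lift (lift a q ≫ M) q := by
      rw [comp_lift, lift_snd]
      rfl
    have e2 : lift (lift a q ≫ M) q ≫ lift δ (snd U U) = lift a q := by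
      rw [comp_lift, lift_snd, hδ t _ _ i x₀ hx, hM, mul_inv_cancel_right]
    rw [Category.comp_id, hw, ← Category.assoc, e1, e2]
  · apply hom_ext_pts A.f A.hf
    intro T t w i x₀ hx
    obtain ⟨q, hq⟩ : ∃ q : Over.mk t ⟶ U, q = w ≫ fst _ _ := ⟨_, rfl⟩
    obtain ⟨q', hq'⟩ : ∃ q' : Over.mk t ⟶ U, q' = w ≫ snd _ _ := ⟨_, rfl⟩
    have hw : w = lift q q' := by
      apply CartesianMonoidalCategory.hom_ext
      · rw [lift_fst, hq]
      · rw [lift_snd, hq']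
    have e1 : lift q q' ≫ lift δ (snd U U) = lift (lift q q' ≫ δ) q' := by
      rw [comp_lift, lift_snd]
    have e3 : lift (lift q q' ≫ δ) q' ≫ M = q := by
      apply (C.Θ t i x₀ hx).injective
      rw [hM, hδ t _ _ i x₀ hx, inv_mul_cancel_right]
    have e2 : lift (lift q q' ≫ δ) q' ≫ lift (C.actOf M hM).act (snd A.J' U) = lift q q' := by
      rw [comp_lift, lift_snd]
      exact congrArg (fun z => lift z q') e3
    rw [Category.comp_id, hw, ← Category.assoc, e1, e2]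

end Act

include C in
theorem locTriv : NonAbH1.IsLocallyTrivialFor Scheme.fpqcPrecoverage U := by
  refine ⟨Presieve.ofArrows A.X A.f, A.hf, ?_⟩
  rintro S' g ⟨i⟩
  exact ⟨((C.Θ (A.f i) i (𝟙 _) (Category.id_comp _)).symm 1).left, Over.w _⟩

/-- the equivariant map from the torsor to its push-forward -/
theorem exists_map : ∃ F : A.PX ⟶ U, ∀ ⦃T : Scheme.{u}⦄ (t : T ⟶ B) (p : Over.mk t ⟶ A.PX)
    (i : A.κ) (x₀ : T ⟶ A.X i) (hx : x₀ ≫ A.f i = t),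
    C.Θ t i x₀ hx (p ≫ F) = A.td p (A.sec i x₀ hx) ≫ A.um := by
  obtain ⟨F, hF⟩ := glue_pts A.f A.hf (W := A.PX) (Y := U)
    (fun T t p i x₀ hx => (C.Θ t i x₀ hx).symm (A.td p (A.sec i x₀ hx) ≫ A.um))
    (by
      intro T T' g t t' hg w i x₀ hx hx'
      rw [← C.symm_nat g t t' hg i x₀ hx hx', rs_comp, A.rs_td, A.rs_sec g hg i x₀ hx hx'])
    (by
      intro T t w i j x₀ x₁ hx₀ hx₁
      rw [← C.symm_trans t i x₀ hx₀ j x₁ hx₁]
      unfold Setup.cc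
      rw [← mul_comp, A.td_mul])
  refine ⟨F, ?_⟩
  intro T t p i x₀ hx
  rw [hF t p i x₀ hx, Equiv.apply_symm_apply]

theorem equivariant (M : A.J' ⊗ U ⟶ U)
    (hM : ∀ ⦃T : Scheme.{u}⦄ (t : T ⟶ B) (a : Over.mk t ⟶ A.J') (q : Over.mk t ⟶ U) (i : A.κ)
      (x₀ : T ⟶ A.X i) (hx : x₀ ≫ A.f i = t),
      C.Θ t i x₀ hx (lift a q ≫ M) = a * C.Θ t i x₀ hx q)
    (F : A.PX ⟶ U)
    (hF : ∀ ⦃T : Scheme.{u}⦄ (t : T ⟶ B) (p : Over.mk t ⟶ A.PX)
      (i : A.κ) (x₀ : T ⟶ A.X i) (hx : x₀ ≫ A.f i = t),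
      C.Θ t i x₀ hx (p ≫ F) = A.td p (A.sec i x₀ hx) ≫ A.um) :
    A.aP.act ≫ F = lift (fst A.J A.PX ≫ A.um) (snd A.J A.PX ≫ F) ≫ M := by
  apply hom_ext_pts A.f A.hf
  intro T t w i x₀ hx
  obtain ⟨g, hg⟩ : ∃ g : Over.mk t ⟶ A.J, g = w ≫ fst _ _ := ⟨_, rfl⟩
  obtain ⟨p, hp⟩ : ∃ p : Over.mk t ⟶ A.PX, p = w ≫ snd _ _ := ⟨_, rfl⟩
  have hw : w = lift g p := by
    apply CartesianMonoidalCategory.hom_ext
    · rw [lift_fst, hg]
    · rw [lift_snd, hp]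
  have e1 : lift g p ≫ lift (fst A.J A.PX ≫ A.um) (snd A.J A.PX ≫ F) =
      lift (g ≫ A.um) (p ≫ F) := by
    rw [comp_lift, lift_fst_assoc, lift_snd_assoc]
  rw [hw, ← Category.assoc, ← Category.assoc, e1]
  apply (C.Θ t i x₀ hx).injective
  rw [hM, hF, hF, A.td_smul_left, mul_comp]

end Charts

theorem main {X : Scheme.{u}} {J J' : Over X} [GrpObj J] [GrpObj J'] [IsAffineHom J.hom]
    [IsAffineHom J'.hom] (um : J ⟶ J') [IsMonHom um]
    (P : NonAbH1.TorsorSch J Scheme.fpqcPrecoverage) :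
    ∃ P' : NonAbH1.TorsorSch J' Scheme.fpqcPrecoverage,
      NonAbH1.IsPushforwardAlongSch um P.act P'.act := by
  obtain ⟨hps, R, hR, hsec⟩ := P.isTorsor
  obtain ⟨κ, Y, c, hc, hS⟩ := QuotPts.exists_small_fpqc (Sieve.generate R)
    (Precoverage.generate_mem_toGrothendieck hR)
  have hex : ∀ i, ∃ s : Y i ⟶ P.X.left, s ≫ P.X.hom = c i := by
    intro i
    obtain ⟨Z, a, r, hr, har⟩ := hS i
    obtain ⟨s, hs⟩ := hsec r hr
    exact ⟨a ≫ s, by rw [Category.assoc, hs, har]⟩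
  choose σ hσ using hex
  let A : Setup X :=
    { J := J, J' := J', um := um, PX := P.X, aP := P.act, hps := hps, κ := κ, X := Y, f := c,
      hf := hc, σ := σ, hσ := hσ }
  haveI : IsAffineHom A.J'.hom := inferInstanceAs (IsAffineHom J'.hom)
  obtain ⟨U, ⟨C⟩⟩ := exists_charts A
    (DescRed.isEffective_of_affineHom_fam c hc A.D (fun i => inferInstance))
  obtain ⟨M, hM⟩ := C.exists_act
  obtain ⟨F, hF⟩ := C.exists_map
  exact ⟨⟨U, C.actOf M hM, C.isPseudoTorsor M hM, C.locTriv⟩, F, C.equivariant M hM F hF⟩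

end Groth.Agent.Helper2.PushTors
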